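import Mathlib
import Cfsg.Agent.Transfer.NormalPComplement

/-!
The derived subgroup `D` of a quaternion Sylow 2-subgroup (order at least 16): `C(D)` has cyclic
Sylow 2-subgroup of index 2 in the quaternion group, hence a normal 2-complement.
-/

open scoped commutatorElement Pointwise

namespace CfsgLib.Transfer

universe u

/-- Two subgroups of a finite cyclic group, the order of one dividing that of the other. -/
theorem le_of_card_dvd_of_isCyclic {A : Type*} [Group A] [Finite A] [IsCyclic A] {H K : Subgroup A}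
    (h : Nat.card H ∣ Nat.card K) : H ≤ K := by
  classical
  haveI := Fintype.ofFinite A
  set m := Nat.card K with hm
  have hmpos : 0 < m := Nat.card_pos
  have hsub : ∀ {L : Subgroup A}, Nat.card L ∣ m →
      Finset.univ.filter (fun a => a ∈ L) ⊆ Finset.univ.filter (fun a : A => a ^ m = 1) := by
    intro L hL x hx
    simp only [Finset.mem_filter, Finset.mem_univ, true_and] at hx ⊢
    exact orderOf_dvd_iff_pow_eq_one.mp ((Subgroup.orderOf_dvd_natCard L hx).trans hL)
  have hKeq : Finset.univ.filter (fun a => a ∈ K) = Finset.univ.filter (fun a : A => a ^ m = 1) := by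
    refine Finset.eq_of_subset_of_card_le (hsub dvd_rfl) ?_
    have h1 := IsCyclic.card_pow_eq_one_le (α := A) hmpos
    have h2 : (Finset.univ.filter (fun a => a ∈ K)).card = m := by
      rw [hm, Nat.card_eq_fintype_card, Fintype.card_subtype]
    rw [h2]
    exact h1
  intro x hx
  have h3 : x ∈ Finset.univ.filter (fun a : A => a ^ m = 1) := hsub h (by simp [hx])
  rw [← hKeq] at h3
  simpa using h3

/-- In a quaternion group of order at least 16 the centralizer of the derived group is the cyclic
subgroup of index 2, and contains the derived group. -/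
theorem quaternion_centralizer_commutator (n : ℕ) :
    Subgroup.centralizer ((commutator (QuaternionGroup (2 ^ (n + 2))) : Subgroup _) : Set _) =
        Subgroup.zpowers (QuaternionGroup.a 1 : QuaternionGroup (2 ^ (n + 2))) ∧
      commutator (QuaternionGroup (2 ^ (n + 2))) ≤
        Subgroup.zpowers (QuaternionGroup.a 1 : QuaternionGroup (2 ^ (n + 2))) ∧
      (Subgroup.zpowers (QuaternionGroup.a 1 : QuaternionGroup (2 ^ (n + 2)))).index = 2 := by
  haveI : NeZero (2 ^ (n + 2)) := ⟨by positivity⟩
  set Z := Subgroup.zpowers (QuaternionGroup.a 1 : QuaternionGroup (2 ^ (n + 2))) with hZ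
  have hmemZ : ∀ i : ZMod (2 * 2 ^ (n + 2)),
      (QuaternionGroup.a i : QuaternionGroup (2 ^ (n + 2))) ∈ Z := by
    intro i
    have h : (QuaternionGroup.a i : QuaternionGroup (2 ^ (n + 2))) = QuaternionGroup.a 1 ^ i.val := by
      rw [QuaternionGroup.a_one_pow, ZMod.natCast_val, ZMod.cast_id]
    rw [h]
    exact pow_mem (Subgroup.mem_zpowers _) _
  have hidx : Z.index = 2 := by
    have h1 := Z.card_mul_index
    rw [hZ, Nat.card_zpowers, QuaternionGroup.orderOf_a_one, Nat.card_eq_fintype_card,
      QuaternionGroup.card, ← hZ] at h1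
    refine Nat.eq_of_mul_eq_mul_left (by positivity : 0 < 2 * 2 ^ (n + 2)) (h1.trans ?_)
    ring
  have hle : commutator (QuaternionGroup (2 ^ (n + 2))) ≤ Z := by
    haveI : Z.Normal := Subgroup.normal_of_index_eq_two hidx
    rw [commutator_def, Subgroup.commutator_le]
    intro x _ y _
    have key : ∀ a b : QuaternionGroup (2 ^ (n + 2)), a * b ∈ Z ↔ (a ∈ Z ↔ b ∈ Z) :=
      fun a b => Subgroup.mul_mem_iff_of_index_two hidx
    rw [commutatorElement_def, key, key, key, inv_mem_iff, inv_mem_iff]
    tauto
  refine ⟨le_antisymm (fun g hg => ?_) (fun g hg => ?_), hle, hidx⟩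
  · cases g with
    | a i => exact hmemZ i
    | xa i =>
      exfalso
      have hc : ⁅(QuaternionGroup.a 1 : QuaternionGroup (2 ^ (n + 2))), (QuaternionGroup.xa 0 : QuaternionGroup (2 ^ (n + 2)))⁆ ∈
          commutator (QuaternionGroup (2 ^ (n + 2))) :=
        Subgroup.commutator_mem_commutator (Subgroup.mem_top _) (Subgroup.mem_top _)
      have h1 := Subgroup.mem_centralizer_iff.mp hg _ hc
      have h2 : ⁅(QuaternionGroup.a 1 : QuaternionGroup (2 ^ (n + 2))), (QuaternionGroup.xa 0 : QuaternionGroup (2 ^ (n + 2)))⁆ *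
          ((QuaternionGroup.xa 0 : QuaternionGroup (2 ^ (n + 2))) * QuaternionGroup.a 1) =
          QuaternionGroup.a 1 * (QuaternionGroup.xa 0 : QuaternionGroup (2 ^ (n + 2))) := by
        rw [commutatorElement_def]; group
      generalize hv : ⁅(QuaternionGroup.a 1 : QuaternionGroup (2 ^ (n + 2))),
        (QuaternionGroup.xa 0 : QuaternionGroup (2 ^ (n + 2)))⁆ = v at h1 h2
      cases v with
      | xa j =>
        rw [QuaternionGroup.xa_mul_a, QuaternionGroup.xa_mul_xa,
          QuaternionGroup.a_mul_xa] at h2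
        exact absurd h2 (by simp)
      | a j =>
        rw [QuaternionGroup.xa_mul_a, QuaternionGroup.a_mul_xa, QuaternionGroup.a_mul_xa] at h2
        rw [QuaternionGroup.xa_mul_a, QuaternionGroup.a_mul_xa] at h1
        simp only [QuaternionGroup.xa.injEq] at h1 h2
        have hj : j = 2 := by linear_combination -h2
        subst hj
        have h4 : ((4 : ℕ) : ZMod (2 * 2 ^ (n + 2))) = 0 := by
          push_cast
          linear_combination -h1
        rw [ZMod.natCast_eq_zero_iff] at h4
        have h5 := Nat.le_of_dvd (by norm_num) h4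
        have h6 : 4 ≤ 2 ^ (n + 2) := by
          rw [pow_add]
          exact Nat.le_mul_of_pos_left 4 (by positivity)
        omega
  · rw [Subgroup.mem_centralizer_iff]
    intro x hx
    exact mul_comm' (⟨x, hle hx⟩ : Z) ⟨g, hg⟩ |> congrArg Subtype.val

variable {G : Type u} [Group G]

/-- The Sylow facts for `D = S'` with `S` quaternion of order at least 16. -/
theorem quaternion_derived_sylow [Finite G] (S : Sylow 2 G) (n : ℕ)
    (e : (S : Subgroup G) ≃* QuaternionGroup (2 ^ (n + 2))) (D : Subgroup G)
    (hD : D = ⁅(S : Subgroup G), (S : Subgroup G)⁆) :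
    D ≤ (S : Subgroup G) ⊓ Subgroup.centralizer (D : Set G) ∧ IsCyclic D ∧
      IsCyclic ((S : Subgroup G) ⊓ Subgroup.centralizer (D : Set G) : Subgroup G) ∧
      (Subgroup.centralizer (D : Set G)).relIndex (S : Subgroup G) = 2 ∧
      (S : Subgroup G) ≤ Subgroup.normalizer (D : Set G) := by
  obtain ⟨hcen, hle, hidx⟩ := quaternion_centralizer_commutator n
  set C := Subgroup.centralizer (D : Set G) with hC
  have hDmap : D = (commutator (S : Subgroup G)).map (S : Subgroup G).subtype := by
    rw [hD, Subgroup.map_subtype_commutator]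
  have hDS : D ≤ (S : Subgroup G) := hDmap ▸ Subgroup.map_subtype_le _
  have hemap : (commutator (S : Subgroup G)).map e.toMonoidHom = commutator _ := by
    rw [commutator_def, commutator_def, Subgroup.map_commutator,
      Subgroup.map_top_of_surjective _ e.surjective]
  have hsub : C.subgroupOf (S : Subgroup G) =
      (Subgroup.zpowers (QuaternionGroup.a 1 : QuaternionGroup (2 ^ (n + 2)))).comap e.toMonoidHom := by
    ext s
    rw [Subgroup.mem_subgroupOf, Subgroup.mem_comap, ← hcen, hC, Subgroup.mem_centralizer_iff,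
      Subgroup.mem_centralizer_iff]
    constructor
    · intro h x hx
      rw [← hemap] at hx
      obtain ⟨d, hd, rfl⟩ := hx
      have h1 : d * s = s * d := Subtype.ext (h (d : G) (hDmap.ge ⟨d, hd, rfl⟩))
      rw [← map_mul, h1, map_mul]
    · intro h x hx
      rw [hDmap] at hx
      obtain ⟨d, hd, rfl⟩ := hx
      have h1 := h (e d) (hemap.le ⟨d, hd, rfl⟩)
      have h2 : d * s = s * d := e.injective (by rw [map_mul, map_mul]; exact h1)
      exact congrArg Subtype.val h2
  have hDC : D ≤ C := by
    intro x hx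
    have hx' : (⟨x, hDS hx⟩ : (S : Subgroup G)) ∈ C.subgroupOf (S : Subgroup G) := by
      rw [hsub, Subgroup.mem_comap]
      apply hle
      rw [← hemap]
      rw [hDmap] at hx
      obtain ⟨d, hd, hdx⟩ := hx
      exact ⟨d, hd, congrArg e.toMonoidHom (Subtype.ext hdx)⟩
    exact hx'
  have hTc : IsCyclic ((S : Subgroup G) ⊓ C : Subgroup G) := by
    refine isCyclic_of_injective
      (((e.toMonoidHom.comp (Subgroup.inclusion (inf_le_left : (S : Subgroup G) ⊓ C ≤ _))).codRestrict
        (Subgroup.zpowers (QuaternionGroup.a 1)) fun x => ?_)) ?_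
    · have h1 : Subgroup.inclusion (inf_le_left : (S : Subgroup G) ⊓ C ≤ _) x ∈
          C.subgroupOf (S : Subgroup G) := x.2.2
      rw [hsub] at h1
      exact h1
    · intro x y hxy
      exact Subgroup.inclusion_injective _ (e.injective (congrArg Subtype.val hxy))
  refine ⟨le_inf hDS hDC, ?_, hTc, ?_, ?_⟩
  · haveI := hTc
    exact isCyclic_of_injective (Subgroup.inclusion (le_inf hDS hDC))
      (Subgroup.inclusion_injective _)
  · rw [Subgroup.relIndex, hsub, Subgroup.index_comap_of_surjective _ e.surjective, hidx]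
  · intro s hs
    refine Subgroup.mem_normalizer_fintype ?_
    intro x hx
    rw [SetLike.mem_coe, hDmap] at hx ⊢
    obtain ⟨d, hd, rfl⟩ := hx
    exact ⟨⟨s, hs⟩ * d * ⟨s, hs⟩⁻¹,
      (inferInstance : (commutator (S : Subgroup G)).Normal).conj_mem d hd _, rfl⟩

/-- In the situation of `quaternion_derived_sylow`, the 2-subgroups of `C(D)` are cyclic. -/
theorem isCyclic_two_subgroup_centralizer [Finite G] (S : Sylow 2 G) {D : Subgroup G}
    (hS : (S : Subgroup G) ≤ Subgroup.normalizer (D : Set G))
    (hT : IsCyclic ((S : Subgroup G) ⊓ Subgroup.centralizer (D : Set G) : Subgroup G))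
    {A : Subgroup G} (hA : IsPGroup 2 A) (hAC : A ≤ Subgroup.centralizer (D : Set G)) :
    IsCyclic A := by
  set N := Subgroup.normalizer (D : Set G) with hN
  have hAN : A ≤ N := hAC.trans (Subgroup.centralizer_le_normalizer _)
  obtain ⟨Q, hQ⟩ := (hA.comap_of_injective N.subtype N.subtype_injective).exists_le_sylow
  obtain ⟨g, hg⟩ := MulAction.exists_smul_eq N Q (S.subtype hS)
  have hmem : ∀ a ∈ A, (g : G) * a * (g : G)⁻¹ ∈ (S : Subgroup G) ⊓ Subgroup.centralizer (D : Set G) := by
    intro a ha
    refine ⟨?_, ?_⟩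
    · have h1 : (⟨a, hAN ha⟩ : N) ∈ (Q : Subgroup N) := hQ ha
      have h2 : g * ⟨a, hAN ha⟩ * g⁻¹ ∈ ((g • Q : Sylow 2 N) : Subgroup N) :=
        Subgroup.mem_map.mpr ⟨_, h1, rfl⟩
      rw [hg] at h2
      exact h2
    · change _ ∈ Subgroup.centralizer (D : Set G)
      rw [Subgroup.mem_centralizer_iff]
      intro d hd
      have hd' : (g : G)⁻¹ * d * (g : G) ∈ D := by
        simpa using (Subgroup.mem_normalizer_iff.mp (inv_mem g.2) d).mp hd
      have h3 := Subgroup.mem_centralizer_iff.mp (hAC ha) _ hd'
      calc d * ((g : G) * a * (g : G)⁻¹) = (g : G) * ((g : G)⁻¹ * d * g * a) * (g : G)⁻¹ := by group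
        _ = (g : G) * (a * ((g : G)⁻¹ * d * g)) * (g : G)⁻¹ := by rw [h3]
        _ = (g : G) * a * (g : G)⁻¹ * d := by group
  haveI := hT
  refine isCyclic_of_injective (((MulAut.conj (g : G)).toMonoidHom.comp A.subtype).codRestrict
    ((S : Subgroup G) ⊓ Subgroup.centralizer (D : Set G)) fun a => hmem a a.2) ?_
  intro a b hab
  exact Subtype.ext ((MulAut.conj (g : G)).injective (congrArg Subtype.val hab))

end CfsgLib.Transfer
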