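import Mathlib
import Cfsg.Agent.Transfer.Frobenius
import Cfsg.Agent.PGroup.Aut

/-!
Primes `q` not dividing any `p ^ i - 1`, `i ≤ d`, act trivially on `p`-groups with `d` generators.
-/

open scoped Pointwise

namespace CfsgLib.Transfer

universe u

variable {G : Type u} [Group G] {p : ℕ}

/-- The Frattini index of a finite `p`-group divides `p ^ rank`. -/
theorem frattini_index_dvd_pow_rank [Finite G] [hp : Fact p.Prime] (hG : IsPGroup p G) :
    (frattini G).index ∣ p ^ Group.rank G := by
  letI : CommGroup (G ⧸ frattini G) :=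
    { (inferInstance : Group (G ⧸ frattini G)) with
      mul_comm := CfsgLib.PGroup.frattini_quotient_comm hG }
  rw [Subgroup.index_eq_card]
  refine (card_dvd_exponent_pow_rank' (G := G ⧸ frattini G)
    (CfsgLib.PGroup.frattini_quotient_pow hG)).trans (Nat.pow_dvd_pow p ?_)
  exact Group.rank_le_of_surjective (QuotientGroup.mk' (frattini G)) (QuotientGroup.mk'_surjective _)

/-- An automorphism of `q`-power order of a `p`-group with `|P : Φ(P)| ∣ p ^ d` is trivial, if `q`
divides no `p ^ i - 1` with `1 ≤ i ≤ d`. -/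
theorem aut_eq_one_of_frattini_index {P : Type*} [Group P] [Finite P] [hp : Fact p.Prime]
    (hP : IsPGroup p P) (σ : MulAut P) {q k : ℕ} [hq : Fact q.Prime] (hqp : q ≠ p)
    (hk : σ ^ q ^ k = 1) {d : ℕ} (hd : (frattini P).index ∣ p ^ d)
    (hnd : ∀ i, 1 ≤ i → i ≤ d → ¬ q ∣ p ^ i - 1) : σ = 1 := by
  haveI hchar : (frattini P).Characteristic := inferInstance
  have hcop : (orderOf σ).Coprime p := by
    have h1 : (q ^ k).Coprime p :=
      Nat.Coprime.pow_left k ((Nat.coprime_primes hq.out hp.out).mpr hqp)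
    exact Nat.Coprime.coprime_dvd_left (orderOf_dvd_of_pow_eq_one hk) h1
  refine CfsgLib.PGroup.aut_eq_one_of_trivial_frattini hP hcop ?_
  let V := P ⧸ frattini P
  let τ : MulAut V := QuotientGroup.congr (frattini P) (frattini P) σ
    (Subgroup.characteristic_iff_map_eq.mp hchar σ)
  have hτ : ∀ x : P, τ (x : V) = ((σ x : P) : V) := fun x => rfl
  have hτpow : ∀ (n : ℕ) (x : P), (τ ^ n) (x : V) = (((σ ^ n) x : P) : V) := by
    intro n
    induction n with
    | zero => intro x; simp
    | succ n ih =>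
      intro x
      rw [pow_succ, pow_succ, MulAut.mul_apply, MulAut.mul_apply, hτ, ih]
  have hA : IsPGroup q (Subgroup.zpowers τ) := by
    refine IsPGroup.of_card_dvd_pow (n := k) ?_
    rw [Nat.card_zpowers]
    refine orderOf_dvd_of_pow_eq_one ?_
    ext y
    obtain ⟨x, rfl⟩ := QuotientGroup.mk_surjective y
    rw [hτpow, hk]
    rfl
  letI : MulAction (Subgroup.zpowers τ) V :=
    MulAction.compHom V (Subgroup.zpowers τ).subtype
  have hmod := hA.card_modEq_card_fixedPoints V
  let F : Subgroup V :=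
    { carrier := {y | τ y = y}
      one_mem' := map_one τ
      mul_mem' := fun {a b} ha hb => by
        simp only [Set.mem_setOf_eq, map_mul] at *; rw [ha, hb]
      inv_mem' := fun {a} ha => by
        simp only [Set.mem_setOf_eq, map_inv] at *; rw [ha] }
  have hfix : Nat.card (MulAction.fixedPoints (Subgroup.zpowers τ) V) = Nat.card F := by
    refine Nat.card_congr (Equiv.subtypeEquivRight fun y => ?_)
    constructor
    · intro h
      exact h ⟨τ, Subgroup.mem_zpowers τ⟩
    · intro h a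
      obtain ⟨z, hz⟩ := Subgroup.mem_zpowers_iff.mp a.2
      change (a : MulAut V) y = y
      rw [← hz]
      exact Subgroup.zpow_mem (MulAction.stabilizer (MulAut V) y) h z
  rw [hfix] at hmod
  obtain ⟨a, hae, ha⟩ := (Nat.dvd_prime_pow hp.out).mp
    (show Nat.card V ∣ p ^ d by rwa [← Subgroup.index_eq_card])
  obtain ⟨b, hba, hb⟩ := (Nat.dvd_prime_pow hp.out).mp (ha ▸ Subgroup.card_subgroup_dvd_card F)
  rw [ha, hb] at hmod
  have hF : F = ⊤ := by
    rcases hba.lt_or_eq with hlt | heq
    · exfalso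
      refine hnd (a - b) (by omega) (by omega) ?_
      have h1 : q ∣ p ^ b * (p ^ (a - b) - 1) := by
        rw [Nat.mul_sub, mul_one, ← pow_add, Nat.add_sub_cancel' hba]
        exact (Nat.modEq_iff_dvd' (Nat.pow_le_pow_right hp.out.pos hba)).mp hmod.symm
      exact ((Nat.coprime_primes hq.out hp.out).mpr hqp |>.pow_right b).dvd_of_dvd_mul_left h1
    · exact Subgroup.eq_top_of_card_eq F (by rw [hb, heq, ha])
  intro x
  have h1 : τ (x : V) = (x : V) := (hF ▸ Subgroup.mem_top (x : V) : (x : V) ∈ F)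
  rw [hτ] at h1
  rw [← div_eq_mul_inv]
  exact QuotientGroup.eq_iff_div_mem.mp h1

/-- A `q`-element normalizing a `p`-subgroup with `|Q : Φ(Q)| ∣ p ^ d` centralizes it, if `q`
divides no `p ^ i - 1` with `1 ≤ i ≤ d`. -/
theorem mem_centralizer_of_frattini_index [Finite G] [hp : Fact p.Prime] {Q : Subgroup G}
    (hQ : IsPGroup p Q) {g : G} (hg : g ∈ Subgroup.normalizer (Q : Set G)) {q k : ℕ}
    [hq : Fact q.Prime] (hqp : q ≠ p) (hk : orderOf g ∣ q ^ k) {d : ℕ}
    (hd : (frattini Q).index ∣ p ^ d) (hnd : ∀ i, 1 ≤ i → i ≤ d → ¬ q ∣ p ^ i - 1) :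
    g ∈ Subgroup.centralizer (Q : Set G) := by
  have hpow : (Subgroup.normalizerMonoidHom Q ⟨g, hg⟩) ^ q ^ k = 1 := by
    rw [← map_pow]
    have h1 : (⟨g, hg⟩ : Subgroup.normalizer (Q : Set G)) ^ q ^ k = 1 :=
      orderOf_dvd_iff_pow_eq_one.mp (by rwa [Subgroup.orderOf_mk])
    rw [h1, map_one]
  have h2 := aut_eq_one_of_frattini_index hQ _ hqp hpow hd hnd
  rw [← MonoidHom.mem_ker, Subgroup.normalizerMonoidHom_ker] at h2
  exact h2

end CfsgLib.Transfer
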