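import Mathlib
import Cfsg.Agent.Eq.Def_Transfer
import Cfsg.Agent.Transfer.Frobenius
import Cfsg.Agent.Coprime.Minimal

/-!
# `p'`-elements fixing the small elements of a `p`-group

* `mem_centralizer_of_fixes_small`: fixing the elements of order dividing `p` (or `4` when `p = 2`)
  means centralizing;
* `mem_centralizer_of_fixes_real`: for a `2`-group it suffices to fix the elements that are
  conjugate in the group to their inverses;
* `mem_centralizer_of_series`: stabilizing a descending chain on the small elements suffices;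
* `hasNormalPComplement_of_forall_le_sylow`: Frobenius' criterion inside a fixed Sylow subgroup.
-/

set_option autoImplicit false

open scoped commutatorElement

namespace CfsgLib.Transfer

universe u

variable {G : Type u} [Group G] {p : ℕ}

/-- Frobenius' criterion, checked inside one Sylow subgroup. -/
theorem hasNormalPComplement_of_forall_le_sylow [Finite G] [hp : Fact p.Prime] (P : Sylow p G)
    (h : ∀ Q : Subgroup G, Q ≤ (P : Subgroup G) → ∀ g ∈ Subgroup.normalizer (Q : Set G),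
      (orderOf g).Coprime p → g ∈ Subgroup.centralizer (Q : Set G)) :
    Cfsg.HasNormalPComplement p G := by
  refine hasNormalPComplement_of_pLocal_centralizes fun Q hQ g hg hgc => ?_
  obtain ⟨R, hR⟩ := hQ.exists_le_sylow
  obtain ⟨x, hx⟩ := MulAction.exists_smul_eq G R P
  have hQP : Q.map (MulAut.conj x).toMonoidHom ≤ (P : Subgroup G) := by
    rw [← hx]; exact Subgroup.map_mono hR
  have hg' : x * g * x⁻¹ ∈
      Subgroup.normalizer ((Q.map (MulAut.conj x).toMonoidHom : Subgroup G) : Set G) :=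
    Subgroup.le_normalizer_map _ (Subgroup.mem_map.mpr ⟨g, hg, rfl⟩)
  have ho : orderOf (x * g * x⁻¹) = orderOf g := MulEquiv.orderOf_eq (MulAut.conj x) g
  have h1 := h _ hQP _ hg' (by rw [ho]; exact hgc)
  rw [Subgroup.mem_centralizer_iff] at h1 ⊢
  intro a ha
  have h2 := h1 (x * a * x⁻¹) (Subgroup.mem_map.mpr ⟨a, ha, rfl⟩)
  have h3 : x * (a * g) * x⁻¹ = x * (g * a) * x⁻¹ := by
    calc x * (a * g) * x⁻¹ = (x * a * x⁻¹) * (x * g * x⁻¹) := by group
      _ = (x * g * x⁻¹) * (x * a * x⁻¹) := h2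
      _ = _ := by group
  exact mul_left_cancel (mul_right_cancel h3)

/-- An element that is not centralized by `g` gives a minimal `g`-invariant subgroup. -/
theorem exists_minimal_zpowers [Finite G] [hp : Fact p.Prime] {Q : Subgroup G} (hQ : IsPGroup p Q)
    {g : G} (hg : g ∈ Subgroup.normalizer (Q : Set G)) (hgc : (orderOf g).Coprime p)
    (hne : g ∉ Subgroup.centralizer (Q : Set G)) :
    ∃ R : Subgroup G, R ≤ Q ∧ IsPGroup p R ∧
      Subgroup.zpowers g ≤ Subgroup.normalizer (R : Set G) ∧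
      (Nat.card (Subgroup.zpowers g)).Coprime p ∧ ⁅R, Subgroup.zpowers g⁆ ≠ ⊥ ∧
      ∀ U : Subgroup G, U < R → Subgroup.zpowers g ≤ Subgroup.normalizer (U : Set G) →
        ⁅U, Subgroup.zpowers g⁆ = ⊥ := by
  have hB : Subgroup.zpowers g ≤ Subgroup.normalizer (Q : Set G) := Subgroup.zpowers_le.mpr hg
  have hnt : ⁅Q, Subgroup.zpowers g⁆ ≠ ⊥ := fun h =>
    hne ((Subgroup.le_centralizer_iff.mp (Subgroup.commutator_eq_bot_iff_le_centralizer.mp h))
      (Subgroup.mem_zpowers g))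
  obtain ⟨R, hRQ, hR, hRnt, hmin⟩ := CfsgLib.Coprime.exists_minimal hB hnt
  exact ⟨R, hRQ, hQ.to_le hRQ, hR, by rwa [Nat.card_zpowers], hRnt, hmin⟩

theorem commutator_zpowers_eq_bot {R : Subgroup G} {g : G} (h : ∀ a ∈ R, g * a = a * g) :
    ⁅R, Subgroup.zpowers g⁆ = ⊥ := by
  rw [Subgroup.commutator_eq_bot_iff_le_centralizer, Subgroup.le_centralizer_iff, Subgroup.zpowers_le,
    Subgroup.mem_centralizer_iff]
  exact fun a ha => (h a ha).symm

/-- A `p'`-element fixing the elements of order dividing `p` (or `4` if `p = 2`) of a `p`-group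
centralizes it. -/
theorem mem_centralizer_of_fixes_small [Finite G] [hp : Fact p.Prime] {Q : Subgroup G}
    (hQ : IsPGroup p Q) {g : G} (hg : g ∈ Subgroup.normalizer (Q : Set G))
    (hgc : (orderOf g).Coprime p)
    (hfix : ∀ a ∈ Q, (a ^ p = 1 ∨ (p = 2 ∧ a ^ 4 = 1)) → g * a = a * g) :
    g ∈ Subgroup.centralizer (Q : Set G) := by
  by_contra hne
  obtain ⟨R, hRQ, hR, hBR, hAp, hnt, hmin⟩ := exists_minimal_zpowers hQ hg hgc hne
  refine hnt (commutator_zpowers_eq_bot fun a ha => hfix a (hRQ ha) ?_)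
  by_cases hp2 : p = 2
  · right
    refine ⟨hp2, ?_⟩
    subst hp2
    obtain ⟨hF, hC⟩ := CfsgLib.Coprime.minimal_inf_centralizer_eq hR hBR le_rfl Subgroup.le_normalizer
      hAp hnt hmin
    have hcen := CfsgLib.Coprime.minimal_frattini_central hR hBR le_rfl Subgroup.le_normalizer hAp hnt hmin
    rw [hF] at hcen
    -- every commutator squares to one
    have hsq : ∀ x ∈ ⁅R, R⁆, x ^ 2 = 1 := by
      let S : Subgroup G :=
        { carrier := {x | x ∈ ⁅R, R⁆ ∧ x ^ 2 = 1}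
          one_mem' := ⟨one_mem _, one_pow 2⟩
          mul_mem' := fun {x y} hx hy => ⟨mul_mem hx.1 hy.1, by
            have hc : Commute x y := ((Subgroup.mem_centralizer_iff.mp (hcen hy.1).1) x
              (Subgroup.commutator_le_self R hx.1))
            rw [hc.mul_pow, hx.2, hy.2, one_mul]⟩
          inv_mem' := fun {x} hx => ⟨inv_mem hx.1, by rw [inv_pow, hx.2, inv_one]⟩ }
      intro x hx
      refine ((Subgroup.commutator_le.mpr fun u hu v hv => ?_ : ⁅R, R⁆ ≤ S) hx).2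
      refine ⟨Subgroup.commutator_mem_commutator hu hv, ?_⟩
      have hc : v * ⁅u, v⁆ = ⁅u, v⁆ * v :=
        Subgroup.mem_centralizer_iff.mp (hcen (Subgroup.commutator_mem_commutator hu hv)).1 v hv
      have hc2 : u * ⁅u, v⁆ = ⁅u, v⁆ * u :=
        Subgroup.mem_centralizer_iff.mp (hcen (Subgroup.commutator_mem_commutator hu hv)).1 u hu
      have hu2 : u ^ 2 ∈ ⁅R, R⁆ := hF ▸ CfsgLib.Coprime.pow_mem_frattini_map hR hu
      have hc3 : u ^ 2 * v = v * u ^ 2 :=
        (Subgroup.mem_centralizer_iff.mp (hcen hu2).1 v hv).symm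
      calc ⁅u, v⁆ ^ 2 = (⁅u, v⁆ * u) * v * u⁻¹ * v⁻¹ := by
            rw [pow_two, commutatorElement_def]; group
        _ = (u * ⁅u, v⁆) * v * u⁻¹ * v⁻¹ := by rw [hc2]
        _ = (u ^ 2 * v) * (u ^ 2)⁻¹ * v⁻¹ := by rw [commutatorElement_def, pow_two]; group
        _ = (v * u ^ 2) * (u ^ 2)⁻¹ * v⁻¹ := by rw [hc3]
        _ = 1 := by group
    rw [show (4 : ℕ) = 2 * 2 from rfl, pow_mul]
    exact hsq _ (hF ▸ CfsgLib.Coprime.pow_mem_frattini_map hR ha)
  · left
    exact CfsgLib.Coprime.minimal_pow_eq_one hR hBR le_rfl Subgroup.le_normalizer hAp hnt hmin hp2 a ha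

/-- In a `2`-group it suffices to fix the real elements. -/
theorem mem_centralizer_of_fixes_real [Finite G] {Q : Subgroup G} (hQ : IsPGroup 2 Q) {g : G}
    (hg : g ∈ Subgroup.normalizer (Q : Set G)) (hgc : (orderOf g).Coprime 2)
    (hfix : ∀ a ∈ Q, (∃ y ∈ Q, y * a * y⁻¹ = a⁻¹) → g * a = a * g) :
    g ∈ Subgroup.centralizer (Q : Set G) := by
  haveI : Fact (Nat.Prime 2) := ⟨Nat.prime_two⟩
  by_contra hne
  obtain ⟨R, hRQ, hR, hBR, hAp, hnt, hmin⟩ := exists_minimal_zpowers hQ hg hgc hne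
  set A := Subgroup.zpowers g with hA
  obtain ⟨hF, hC⟩ := CfsgLib.Coprime.minimal_inf_centralizer_eq hR hBR le_rfl Subgroup.le_normalizer
    hAp hnt hmin
  have hcen := CfsgLib.Coprime.minimal_frattini_central hR hBR le_rfl Subgroup.le_normalizer hAp hnt hmin
  rw [hF] at hcen
  have hsqmem : ∀ a ∈ R, a ^ 2 ∈ ⁅R, R⁆ := fun a ha =>
    hF ▸ CfsgLib.Coprime.pow_mem_frattini_map hR ha
  have hcomm : ∀ x ∈ ⁅R, R⁆, ∀ y ∈ R, y * x = x * y := fun x hx y hy =>
    Subgroup.mem_centralizer_iff.mp (hcen hx).1 y hy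
  -- an element of `R` that `g` moves
  obtain ⟨x, hx, hxg⟩ : ∃ x ∈ R, g * x ≠ x * g := by
    by_contra h
    push Not at h
    exact hnt (commutator_zpowers_eq_bot h)
  have hnr : ∀ y ∈ R, y * x * y⁻¹ ≠ x⁻¹ := fun y hy h => hxg (hfix x (hRQ hx) ⟨y, hRQ hy, h⟩)
  -- `D = [x, R]`
  have hcx : ∀ y ∈ R, ⁅x, y⁆ ∈ ⁅R, R⁆ := fun y hy => Subgroup.commutator_mem_commutator hx hy
  let D : Subgroup G :=
    { carrier := {d | ∃ y ∈ R, ⁅x, y⁆ = d}
      one_mem' := ⟨1, one_mem _, by simp [commutatorElement_def]⟩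
      mul_mem' := fun {a b} ha hb => by
        obtain ⟨y, hy, rfl⟩ := ha
        obtain ⟨z, hz, rfl⟩ := hb
        refine ⟨y * z, mul_mem hy hz, ?_⟩
        have h1 := hcomm _ (hcx z hz) y hy
        calc ⁅x, y * z⁆ = ⁅x, y⁆ * (y * ⁅x, z⁆) * y⁻¹ := by simp only [commutatorElement_def]; group
          _ = ⁅x, y⁆ * (⁅x, z⁆ * y) * y⁻¹ := by rw [h1]
          _ = _ := by group
      inv_mem' := fun {a} ha => by
        obtain ⟨y, hy, rfl⟩ := ha
        refine ⟨y⁻¹, inv_mem hy, ?_⟩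
        have h1 := hcomm _ (inv_mem (hcx y hy)) y⁻¹ (inv_mem hy)
        calc ⁅x, y⁻¹⁆ = (y⁻¹ * ⁅x, y⁆⁻¹) * y := by simp only [commutatorElement_def]; group
          _ = (⁅x, y⁆⁻¹ * y⁻¹) * y := by rw [h1]
          _ = _ := by group }
  have hDle : D ≤ ⁅R, R⁆ := by
    rintro _ ⟨y, hy, rfl⟩
    exact hcx y hy
  have hxD : x ^ 2 ∉ D := by
    rintro ⟨y, hy, hyx⟩
    refine hnr y hy ?_
    have h1 : y * x⁻¹ * y⁻¹ = x := by
      have h2 := congrArg (x⁻¹ * ·) hyx
      simp only [commutatorElement_def, pow_two] at h2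
      simpa [mul_assoc] using h2
    have h2 := congrArg (·⁻¹) h1
    simpa [mul_assoc] using h2
  -- `S`: the elements commuting with `R` modulo `D`
  have hcommgen : ∀ a ∈ R, ∀ b ∈ R, ∀ c ∈ R, ⁅a * b, c⁆ = ⁅a, c⁆ * ⁅b, c⁆ := by
    intro a ha b hb c hc
    have h1 := hcomm _ (Subgroup.commutator_mem_commutator hb hc) a ha
    have h2 := hcomm _ (Subgroup.commutator_mem_commutator hb hc) ⁅a, c⁆
      (Subgroup.commutator_le_self R (Subgroup.commutator_mem_commutator ha hc))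
    calc ⁅a * b, c⁆ = (a * ⁅b, c⁆) * a⁻¹ * ⁅a, c⁆ := by simp only [commutatorElement_def]; group
      _ = (⁅b, c⁆ * a) * a⁻¹ * ⁅a, c⁆ := by rw [h1]
      _ = ⁅b, c⁆ * ⁅a, c⁆ := by group
      _ = _ := h2.symm
  let S : Subgroup G :=
    { carrier := {y | y ∈ R ∧ ∀ r ∈ R, ⁅y, r⁆ ∈ D}
      one_mem' := ⟨one_mem _, fun r _ => by rw [commutatorElement_one_left]; exact one_mem D⟩
      mul_mem' := fun {a b} ha hb => ⟨mul_mem ha.1 hb.1, fun r hr => by
        rw [hcommgen a ha.1 b hb.1 r hr]; exact mul_mem (ha.2 r hr) (hb.2 r hr)⟩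
      inv_mem' := fun {a} ha => ⟨inv_mem ha.1, fun r hr => by
        have h1 := hcommgen a⁻¹ (inv_mem ha.1) a ha.1 r hr
        rw [inv_mul_cancel, commutatorElement_one_left, eq_comm, mul_eq_one_iff_eq_inv] at h1
        rw [h1]; exact inv_mem (ha.2 r hr)⟩ }
  have hSR : S ≤ R := fun y hy => hy.1
  have hxS : x ∈ S := ⟨hx, fun r hr => ⟨r, hr, rfl⟩⟩
  have hgfix : ∀ z ∈ ⁅R, R⁆, ∀ b ∈ A, b * z * b⁻¹ = z := fun z hz b hb =>
    mul_inv_eq_iff_eq_mul.mpr (Subgroup.mem_centralizer_iff.mp (hcen hz).2 b hb)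
  have hAS : A ≤ Subgroup.normalizer (S : Set G) := by
    refine CfsgLib.Coprime.le_normalizer_of_conj_mem fun b hb y hy => ?_
    refine ⟨CfsgLib.Coprime.conj_mem_of_le_normalizer hBR hb hy.1, fun r hr => ?_⟩
    have hr' : b⁻¹ * r * b ∈ R := CfsgLib.Coprime.conj_mem_of_le_normalizer' hBR hb hr
    have h1 := hgfix _ (hDle (hy.2 _ hr')) b hb
    have h2 : ⁅b * y * b⁻¹, r⁆ = b * ⁅y, b⁻¹ * r * b⁆ * b⁻¹ := by
      simp only [commutatorElement_def]; group
    rw [h2, h1]
    exact hy.2 _ hr'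
  -- squares of `S` lie in `D`
  have hmul : ∀ a ∈ R, ∀ b ∈ R, (a * b) ^ 2 = a ^ 2 * b ^ 2 * ⁅b, a⁆ := by
    intro a ha b hb
    have h1 := hcomm _ (Subgroup.commutator_mem_commutator hb ha) a ha
    have h2 := hcomm _ (Subgroup.commutator_mem_commutator hb ha) b hb
    calc (a * b) ^ 2 = a * (⁅b, a⁆ * a) * b * b := by rw [pow_two, commutatorElement_def]; group
      _ = a * (a * ⁅b, a⁆) * b * b := by rw [h1]
      _ = a * a * (⁅b, a⁆ * b) * b := by group
      _ = a * a * (b * ⁅b, a⁆) * b := by rw [h2]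
      _ = a * a * b * (⁅b, a⁆ * b) := by group
      _ = a * a * b * (b * ⁅b, a⁆) := by rw [h2]
      _ = _ := by rw [pow_two, pow_two]; group
  let T : Subgroup G :=
    { carrier := {y | y ∈ S ∧ y ^ 2 ∈ D}
      one_mem' := ⟨one_mem _, by rw [one_pow]; exact one_mem D⟩
      mul_mem' := fun {a b} ha hb => ⟨mul_mem ha.1 hb.1, by
        rw [hmul a (hSR ha.1) b (hSR hb.1)]
        exact mul_mem (mul_mem ha.2 hb.2) (hb.1.2 a (hSR ha.1))⟩
      inv_mem' := fun {a} ha => ⟨inv_mem ha.1, by rw [inv_pow]; exact inv_mem ha.2⟩ }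
  have hcop : (Nat.card A).Coprime (Nat.card S) :=
    CfsgLib.Coprime.coprime_card_of_isPGroup (hR.to_le hSR) hAp
  have hsol : Group.IsSolvable A ∨ Group.IsSolvable S := Or.inl (CfsgLib.Coprime.isSolvable_zpowers g)
  have hST : S ≤ T := by
    conv_lhs => rw [← CfsgLib.Coprime.eq_commutator_sup_centralizer hAS hcop hsol]
    refine sup_le (Subgroup.commutator_le.mpr fun a ha b hb => ?_) ?_
    · have hy : b * a⁻¹ * b⁻¹ ∈ S := CfsgLib.Coprime.conj_mem_of_le_normalizer hAS hb (inv_mem ha)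
      have he : ⁅a, b⁆ = a * (b * a⁻¹ * b⁻¹) := by rw [commutatorElement_def]; group
      refine ⟨he ▸ mul_mem ha hy, ?_⟩
      have h1 : (b * a⁻¹ * b⁻¹) ^ 2 = (a ^ 2)⁻¹ := by
        rw [conj_pow, inv_pow, hgfix _ (inv_mem (hsqmem a (hSR ha))) b hb]
      rw [he, hmul a (hSR ha) _ (hSR hy), h1, mul_inv_cancel, one_mul]
      exact hy.2 a (hSR ha)
    · rintro z ⟨hzS, hzC⟩
      refine ⟨hzS, ?_⟩
      have hz : z ∈ ⁅R, R⁆ := hC.le ⟨hSR hzS, hzC⟩
      have hz2 : z ^ 2 = 1 := by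
        -- `z` centralises `A` and squares of commutators vanish
        let U : Subgroup G :=
          { carrier := {w | w ∈ ⁅R, R⁆ ∧ w ^ 2 = 1}
            one_mem' := ⟨one_mem _, one_pow 2⟩
            mul_mem' := fun {a b} ha hb => ⟨mul_mem ha.1 hb.1, by
              have hc : Commute a b := hcomm b hb.1 a (Subgroup.commutator_le_self R ha.1)
              rw [hc.mul_pow, ha.2, hb.2, one_mul]⟩
            inv_mem' := fun {a} ha => ⟨inv_mem ha.1, by rw [inv_pow, ha.2, inv_one]⟩ }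
        refine ((Subgroup.commutator_le.mpr fun u hu v hv => ?_ : ⁅R, R⁆ ≤ U) hz).2
        refine ⟨Subgroup.commutator_mem_commutator hu hv, ?_⟩
        have h2 : ⁅u ^ 2, v⁆ = 1 :=
          commutatorElement_eq_one_iff_mul_comm.mpr (hcomm _ (hsqmem u hu) v hv).symm
        rw [pow_two, ← hcommgen u hu u hu v hv, ← pow_two, h2]
      rw [hz2]
      exact one_mem D
  exact hxD (hST hxS).2

/-- If a `p'`-element normalizing `Q` stabilizes a descending series on the small elements of `Q`,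
it centralizes `Q`. -/
theorem mem_centralizer_of_series [Finite G] [hp : Fact p.Prime] {Q : Subgroup G} (hQ : IsPGroup p Q)
    {g : G} (hg : g ∈ Subgroup.normalizer (Q : Set G)) (hgc : (orderOf g).Coprime p)
    (L : ℕ → Subgroup G) (n : ℕ) (hn : L n = ⊥)
    (h0 : ∀ a ∈ Q, (a ^ p = 1 ∨ (p = 2 ∧ a ^ 4 = 1)) → a ∈ L 0)
    (hstep : ∀ i, i < n → ∀ a ∈ Q, (a ^ p = 1 ∨ (p = 2 ∧ a ^ 4 = 1)) → a ∈ L i →
      ∀ j : ℤ, a⁻¹ * (g ^ j * a * (g ^ j)⁻¹) ∈ L (i + 1)) :
    g ∈ Subgroup.centralizer (Q : Set G) := by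
  refine mem_centralizer_of_fixes_small hQ hg hgc ?_
  suffices key : ∀ k i, i + k = n → ∀ a ∈ Q, (a ^ p = 1 ∨ (p = 2 ∧ a ^ 4 = 1)) → a ∈ L i →
      g * a = a * g from
    fun a ha hs => key n 0 (zero_add n) a ha hs (h0 a ha hs)
  intro k
  induction k with
  | zero =>
    intro i hi a _ _ hai
    rw [add_zero] at hi
    rw [hi, hn, Subgroup.mem_bot] at hai
    simp [hai]
  | succ k ih =>
    intro i hi a ha hs hai
    have hgj : ∀ j : ℤ, ∀ y ∈ Q, g ^ j * y * (g ^ j)⁻¹ ∈ Q := fun j y hy =>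
      (Subgroup.mem_normalizer_iff.mp (zpow_mem hg j) y).mp hy
    let M : Subgroup G :=
      { carrier := {y | y ∈ Q ∧ ∀ j : ℤ, g ^ j * y * (g ^ j)⁻¹ ∈ L (i + 1)}
        one_mem' := ⟨one_mem _, fun j => by simp [one_mem]⟩
        mul_mem' := fun {x y} hx hy => ⟨mul_mem hx.1 hy.1, fun j => by
          simpa [mul_assoc] using mul_mem (hx.2 j) (hy.2 j)⟩
        inv_mem' := fun {x} hx => ⟨inv_mem hx.1, fun j => by
          simpa [mul_assoc] using inv_mem (hx.2 j)⟩ }
    have hMQ : M ≤ Q := fun y hy => hy.1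
    have hgM : g ∈ Subgroup.normalizer (M : Set G) := by
      have hfwd : ∀ (e : ℤ), ∀ y ∈ M, g ^ e * y * (g ^ e)⁻¹ ∈ M := fun e y hy =>
        ⟨hgj e y hy.1, fun j => by
          have h1 := hy.2 (j + e)
          rw [zpow_add] at h1
          simpa [mul_assoc] using h1⟩
      refine Subgroup.mem_normalizer_iff.mpr fun y => ⟨fun hy => ?_, fun hy => ?_⟩
      · simpa using hfwd 1 y hy
      · simpa [mul_assoc] using hfwd (-1) _ hy
    have hMc : g ∈ Subgroup.centralizer (M : Set G) :=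
      mem_centralizer_of_fixes_small (hQ.to_le hMQ) hgM hgc fun y hy hys =>
        ih (i + 1) (by omega) y hy.1 hys (by simpa using hy.2 0)
    set c := a⁻¹ * (g * a * g⁻¹) with hc
    have hcM : c ∈ M := by
      refine ⟨mul_mem (inv_mem ha) (by simpa using hgj 1 a ha), fun j => ?_⟩
      have h1 := mul_mem (inv_mem (hstep i (by omega) a ha hs hai j))
        (hstep i (by omega) a ha hs hai (j + 1))
      rw [zpow_add, zpow_one] at h1
      simpa [hc, mul_assoc] using h1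
    have hgc' : g * c = c * g := (Subgroup.mem_centralizer_iff.mp hMc c hcM).symm
    have hga : g * a * g⁻¹ = a * c := by rw [hc, mul_inv_cancel_left]
    have hpow : ∀ m : ℕ, g ^ m * a * (g ^ m)⁻¹ = a * c ^ m := by
      intro m
      induction m with
      | zero => simp
      | succ m ihm =>
        calc g ^ (m + 1) * a * (g ^ (m + 1))⁻¹ = g * (g ^ m * a * (g ^ m)⁻¹) * g⁻¹ := by
              rw [pow_succ']; group
          _ = g * (a * c ^ m) * g⁻¹ := by rw [ihm]
          _ = (g * a * g⁻¹) * (g * c ^ m * g⁻¹) := by group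
          _ = a * c * c ^ m := by
            rw [hga, (Commute.pow_right hgc' m).eq, mul_inv_cancel_right]
          _ = _ := by rw [pow_succ', mul_assoc]
    have hcn := hpow (orderOf g)
    rw [pow_orderOf_eq_one, one_mul, inv_one, mul_one, left_eq_mul] at hcn
    have hc1 : c = 1 := eq_one_of_mem_pGroup_of_coprime hQ (hMQ hcM)
      (Nat.Coprime.coprime_dvd_left (orderOf_dvd_of_pow_eq_one hcn) hgc)
    rw [hc1, mul_one] at hga
    exact mul_inv_eq_iff_eq_mul.mp hga

end CfsgLib.Transfer
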